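import Cfsg.Agent.SPU6.I2
import Cfsg.Agent.SPU6.GEN
import Cfsg.Agent.UM6.K4
import Cfsg.Agent.SP7.K4

/-!
# The unitary overgroups: the long root elements as a function on the isotropic vectors
-/

set_option autoImplicit false
set_option linter.unusedSectionVars false
set_option linter.unusedVariables false

namespace Cfsg.Lib.SPU6

open Subgroup Module Cfsg.Lib.Trans Cfsg.Lib.Gold Cfsg.Lib.Class.Form Cfsg.Lib.Class.FAut
open Cfsg.Lib.UM6 (tT tE I2 I3 Fx Semi Mp Ot sg kk qn)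
open Cfsg.Lib.SP7 (P2 P3 O3 G1 G2 T1 T3)
open scoped commutatorElement

section Gen
variable {G F M K N N' : Type*} [Group G] [Finite G] [Field F] [Finite F] [AddCommGroup M]
  [Module F M] [FiniteDimensional F M] [Field K] [Finite K] [AddCommGroup N] [Module K N]
  [FiniteDimensional K N] [AddCommGroup N'] [Module K N'] [FiniteDimensional K N'] {σ : K →+* K}
  {B : M →ₗ[F] M →ₗ[F] F} {Bh : N →ₛₗ[σ] N →ₗ[K] K} {Bh' : N' →ₛₗ[σ] N' →ₗ[K] K}
  {ρ : F →+* K} {β : F} {γ : K} {j : M →+ N} {v : N} {v' : N'} {ι : sIsom B →* sIsom Bh}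
  {ι' : sIsom Bh →* sIsom Bh'} {i : N →ₗ[K] N'} {φ : sIsom B →* G} {t : G} {H : M → M → G}
  {ψ : sIsom Bh →* G}

namespace D1f

theorem cC {D : M → G} (h : T3 φ t H D β) (r : RF B Bh ρ β γ j 0) (k : I1 φ H ψ ι γ j)
    (e : Em ι j 0) {u : M} (u0 : u ≠ 0) {g : sIsom Bh} (hg : lin g (j u) = j u) :
    Commute (ψ g) (D u) := by
  have m := r.sp
  have mem : ∀ g, g ∈ (centralizer {D u}).comap ψ ↔ Commute (ψ g) (D u) :=
    fun g => mem_centralizer_singleton_iff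
  refine (mem g).1 (gen_Fx1 r.mo (r.iso u) (fun e => u0 (r.j_inj (e.trans (map_zero j).symm)))
    (fun y h1 h2 => (mem _).2 ?_) hg)
  obtain ⟨a, b, rfl⟩ := r.co0 y
  have ab := (r.iso_iff a b).1 h1
  rw [r.form1] at h2
  obtain ⟨ua, ub⟩ := r.toQE.inj (a' := 0) (b' := 0) (by rw [h2]; simp)
  rw [← map_one ρ, k.tT r e ab, Th]
  refine Commute.mul_left (mul_inv_eq_iff_eq_mul.1 ?_)
    (h.dH u b ((1 : F) • a) ⟨ub, by simp [ua], by simp [m.swap ab]⟩).symm
  rw [h.deqv, lin_mul, m.lin_tT b, m.swap ub, mul_zero, zero_smul, add_zero, m.lin_tT, m.swap ua,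
    mul_zero, zero_smul, add_zero]

theorem EE (m : UM6.Mo Bh) {x y z : N} (k : I3 Bh x y z) :
    tE Bh (γ • z) y * tE Bh (γ • (y + z)) x = tE Bh (γ • y) x * tE Bh (γ • z) (x + y) := by
  have h1 := m.swap k.uw
  have h2 := m.swap k.ux
  have h3 := m.swap k.wx
  refine lin_ext fun s => ?_
  rw [lin_mul, lin_mul, m.lin_tE ⟨by simp [k.xx], k.ww, by simp [h3]⟩,
    m.lin_tE ⟨by simp [k.xx, k.ww, k.wx, h3], k.uu, by simp [h1, h2]⟩,
    m.lin_tE ⟨by simp [k.ww], k.uu, by simp [h1]⟩,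
    m.lin_tE ⟨by simp [k.xx], by simp [k.uu, k.ww, k.uw, h1], by simp [h2, h3]⟩]
  simp only [map_add, LinearMap.map_smulₛₗ₂, map_smul, LinearMap.add_apply, smul_eq_mul, smul_add,
    k.uu, k.ww, k.xx, k.uw, k.ux, k.wx, h1, h2, h3, mul_zero, add_zero]
  module

theorem all {D : N → G} (m : UM6.Mo Bh) (d0 : D 0 = 1)
    (eqv : ∀ g x, Bh x x = 0 → ψ g * D x * (ψ g)⁻¹ = D (lin g x))
    (add : ∀ x y, I2 Bh x y → LinearIndependent K ![x, y] →
      D (x + y) = D x * D y * ψ (tE Bh (γ • y) x)) {x y : N} (k : I2 Bh x y) :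
    D (x + y) = D x * D y * ψ (tE Bh (γ • y) x) := by
  have z1 : ∀ q, D (0 + q) = D 0 * D q * ψ (tE Bh (γ • q) 0) := fun q => by
    rw [zero_add, d0, m.tE_zero, map_one, one_mul, mul_one]
  by_cases x0 : x = 0
  · rw [x0, z1]
  by_cases li : LinearIndependent K ![x, y]
  · exact add x y k li
  obtain ⟨a, rfl⟩ : ∃ a : K, a • x = y := by
    by_contra hn
    exact li ((LinearIndependent.pair_iff' x0).2 fun a ha => hn ⟨a, ha⟩)
  obtain ⟨z, i, lz⟩ := m.ext2 k.uu x0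
  have zx := m.swap i.uw
  have lz' := LinearIndependent.pair_iff.1 lz
  have A : ∀ b : K, D (b • x + z) = D (b • x) * D z * ψ (tE Bh (γ • z) (b • x)) := fun b => by
    by_cases b0 : b = 0
    · rw [b0, zero_smul, z1]
    · refine add _ _ ⟨by simp [k.uu], i.ww, by simp [i.uw]⟩ (LinearIndependent.pair_iff.2 fun s r e => ?_)
      rw [smul_smul] at e
      exact ⟨(mul_eq_zero.1 (lz' _ _ e).1).resolve_right b0, (lz' _ _ e).2⟩
  have A1 := A (1 + a)
  rw [add_smul, one_smul, add_assoc] at A1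
  have A2 := add x (a • x + z) ⟨k.uu, by simp [k.uu, i.ww, i.uw, zx], by simp [k.uu, i.uw]⟩
    (LinearIndependent.pair_iff.2 fun s r e => by
      have e' := lz' (s + r * a) r (by rw [← e]; module)
      refine ⟨?_, e'.2⟩
      have := e'.1
      rwa [e'.2, zero_mul, add_zero] at this)
  have c : ψ (tE Bh (γ • a • x) x) * D z = D z * ψ (tE Bh (γ • a • x) x) := by
    refine mul_inv_eq_iff_eq_mul.1 ?_
    rw [eqv _ _ i.ww, m.lin_tE ⟨by simp [k.uu], k.uu, by simp [k.uu]⟩]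
    simp [i.uw]
  rw [A1, A a, mul_assoc (D x), mul_assoc (D (a • x) * D z), ← map_mul,
    EE m (x := x) (y := a • x) (z := z) ⟨k, i.ww, i.uw, by simp [i.uw]⟩, map_mul] at A2
  refine mul_right_cancel (b := D z * ψ (tE Bh (γ • z) (x + a • x))) ?_
  rw [← mul_assoc, A2, mul_assoc (D x * D (a • x)), ← mul_assoc (ψ _), c]
  simp only [mul_assoc]

end D1f

theorem ud_of_T3 {D : M → G} (h : T3 φ t H D β) (r : RF B Bh ρ β γ j 0) (e : Em ι j 0)
    (k : I1 φ H ψ ι γ j) : ∃ D' : N → G, UD ψ γ D' ∧ ∀ u, D' (j u) = D u := by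
  classical
  have m := r.mo
  obtain ⟨u, u0⟩ := r.sp.exists_ne
  have ju : j u ≠ 0 := fun e => u0 (r.j_inj (e.trans (map_zero j).symm))
  obtain ⟨D', d0, hF⟩ : ∃ D' : N → G, D' 0 = 1 ∧
      ∀ g, D' (lin g (j u)) = ψ g * D u * (ψ g)⁻¹ := by
    refine ⟨fun x => if hx : ∃ g : sIsom Bh, lin g (j u) = x then
      ψ hx.choose * D u * (ψ hx.choose)⁻¹ else 1, dif_neg fun ⟨g, hg⟩ => lin_ne_zero g ju hg,
      fun g => ?_⟩
    have hx : ∃ g' : sIsom Bh, lin g' (j u) = lin g (j u) := ⟨g, rfl⟩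
    refine (dif_pos hx).trans ?_
    have c := D1f.cC h r k e u0 (g := g⁻¹ * hx.choose) (by rw [lin_mul, hx.choose_spec, lin_inv_lin])
    generalize hx.choose = g' at c ⊢
    have := c.mul_inv_cancel
    rw [map_mul, map_inv] at this
    conv_rhs => rw [← this]
    group
  have eqv : ∀ g x, Bh x x = 0 → ψ g * D' x * (ψ g)⁻¹ = D' (lin g x) := fun g x hx => by
    by_cases x0 : x = 0
    · rw [x0, map_zero, d0, mul_one, mul_inv_cancel]
    · obtain ⟨g', rfl⟩ := m.tr1 (r.iso u) ju hx x0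
      rw [← lin_mul, hF, hF, map_mul]
      group
  have res : ∀ w, D' (j w) = D w := fun w => by
    by_cases w0 : w = 0
    · rw [w0, map_zero, d0, h.d0]
    · obtain ⟨g, rfl⟩ := r.sp.tr1 u0 w0
      rw [← e.lj, hF, k.res, h.deqv]
  refine ⟨D', ⟨r.toQE.trγ, d0, eqv, fun x y i => D1f.all m d0 eqv (fun x y i li => ?_) i⟩, res⟩
  obtain ⟨w, p⟩ := r.sp.ext2 u0
  obtain ⟨g, rfl, rfl⟩ := m.tr2 (r.i2 p.uw) (r.li2 p) i li
  have wu := r.sp.swap p.uw
  rw [← map_add, ← map_add, ← eqv g _ (r.iso _), ← eqv g _ (r.iso _), ← eqv g _ (r.iso _), res, res,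
    res, h.dadd u w p.uw, ← k.resH w u wu, ← map_smul (lin g), ← m.tE_conj g (r.i2γ wu), map_mul,
    map_mul,
    map_inv]
  group

end Gen

end Cfsg.Lib.SPU6
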