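import Cfsg.Agent.SPU6.GEN
import Cfsg.Agent.UM6.K4

/-!
# The unitary overgroups: the conjugates of the transvections are well defined
-/

set_option autoImplicit false
set_option linter.unusedSectionVars false
set_option linter.unusedVariables false

namespace Cfsg.Lib.SPU6

open Subgroup Module Cfsg.Lib.Trans Cfsg.Lib.Gold Cfsg.Lib.Class.Form Cfsg.Lib.Class.FAut
open Cfsg.Lib.UM6 (tT tE I2 I3 Fx Semi Mp Ot sg kk qn)
open Cfsg.Lib.SP7 (P2 P3 O3 G1 G2 T1 T3)
open scoped commutatorElement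

section Gen
variable {G F M K N N' : Type*} [Group G] [Finite G] [Field F] [Finite F] [AddCommGroup M]
  [Module F M] [FiniteDimensional F M] [Field K] [Finite K] [AddCommGroup N] [Module K N]
  [FiniteDimensional K N] [AddCommGroup N'] [Module K N'] [FiniteDimensional K N'] {σ : K →+* K}
  {B : M →ₗ[F] M →ₗ[F] F} {Bh : N →ₛₗ[σ] N →ₗ[K] K} {Bh' : N' →ₛₗ[σ] N' →ₗ[K] K}
  {ρ : F →+* K} {β : F} {γ : K} {j : M →+ N} {v : N} {v' : N'} {ι : sIsom B →* sIsom Bh}
  {ι' : sIsom Bh →* sIsom Bh'} {i : N →ₗ[K] N'} {φ : sIsom B →* G} {t : G} {H : M → M → G}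
  {ψ : sIsom Bh →* G}

theorem UD.fix {D : N → G} (h : UD ψ γ D) {g : sIsom Bh} {x : N} (hx : Bh x x = 0)
    (k : lin g x = x) : Commute (ψ g) (D x) := by
  have := h.eqv g x hx
  rw [k] at this
  exact mul_inv_eq_iff_eq_mul.1 this

namespace D2f

theorem gf {D : N → G} (h : UD ψ γ D) (m : UM6.Mo Bh) {p f : N} (hp : Bh p p = 0) (hf : Bh f f = 0)
    (g : sIsom Bh) : ψ g * (D p * ψ (tT Bh f 1) * (D p)⁻¹) * (ψ g)⁻¹ =
      D (lin g p) * ψ (tT Bh (lin g f) 1) * (D (lin g p))⁻¹ := by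
  rw [← h.eqv g p hp, ← m.tT_conj g hf (map_one σ), map_mul, map_mul, map_inv]
  group

theorem px {p f : N} (hp : Bh p p = 0) : Bh p (f + (γ * Bh p f) • p) = Bh p f := by
  simp [hp]

theorem xx (m : UM6.Mo Bh) (tr : γ + σ γ = 1) {p f : N} (hp : Bh p p = 0) (hf : Bh f f = 0) :
    Bh (f + (γ * Bh p f) • p) (f + (γ * Bh p f) • p) = σ (Bh p f) * Bh p f := by
  simp only [map_add, LinearMap.map_smulₛₗ₂, map_smul, LinearMap.add_apply,
    smul_eq_mul, hp, hf, map_mul, ← m.toHerm.conj p f]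
  linear_combination (σ (Bh p f) * Bh p f) * tr

theorem nm0 {a : K} (e : σ a * a = 0) : a = 0 := by
  rcases mul_eq_zero.1 e with e | e
  · exact (map_eq_zero σ).1 e
  · exact e

theorem li {p x : N} (hp : Bh p p = 0) (a0 : Bh p x ≠ 0) : LinearIndependent K ![x, p] := by
  refine LinearIndependent.pair_iff.2 fun s r e => ?_
  have h1 := congrArg (Bh p) e
  simp only [map_add, map_smul, smul_eq_mul, hp, mul_zero, add_zero, map_zero] at h1
  have h2 : s = 0 := (mul_eq_zero.1 h1).resolve_right a0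
  rw [h2, zero_smul, zero_add] at e
  refine ⟨h2, (smul_eq_zero.1 e).resolve_right fun h3 => a0 ?_⟩
  rw [h3, map_zero, LinearMap.zero_apply]

theorem two {D : N → G} (h : UD ψ γ D) (m : UM6.Mo Bh) {p f : N} (hp : Bh p p = 0)
    (hf : Bh f f = 0) {z z' : N} (k : I2 Bh z z') (zp : Bh z p = 0) (zf : Bh z f = 0)
    (zx : Bh z' (f + (γ * Bh p f) • p) = 0) :
    Commute (ψ (tE Bh z z')) (D p * ψ (tT Bh f 1) * (D p)⁻¹) := by
  have pz := m.swap zp
  have e0 : Bh z' f = γ * Bh p f * Bh z' p := by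
    simp only [map_add, map_smul, smul_eq_mul] at zx
    linear_combination zx - (γ * Bh p f * Bh z' p) * m.two
  have e1 : lin (tE Bh z z') p = p + Bh z' p • z := by rw [m.lin_tE k, zp, zero_smul, add_zero]
  have e2 : lin (tE Bh z z') f = f + (γ * Bh p f * Bh z' p) • z := by
    rw [m.lin_tE k, zf, zero_smul, add_zero, e0]
  have i1 : I2 Bh p (Bh z' p • z) := ⟨hp, by simp [k.uu], by simp [pz]⟩
  have i2 : I2 Bh (γ • Bh z' p • z) p := ⟨by simp [k.uu], hp, by simp [zp]⟩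
  have e3 : lin (tE Bh (γ • Bh z' p • z) p) (f + (γ * Bh p f * Bh z' p) • z) = f := by
    rw [m.lin_tE i2]
    simp only [map_add, LinearMap.map_smulₛₗ₂, map_smul, smul_eq_mul, zf, pz,
      k.uu, mul_zero, add_zero, zero_smul]
    linear_combination (norm := module) m.vadd_self ((γ * Bh p f * Bh z' p) • z)
  have f' : Bh (f + (γ * Bh p f * Bh z' p) • z) (f + (γ * Bh p f * Bh z' p) • z) = 0 := by
    rw [← e2, lin_isom, hf]
  have e4 := congrArg ψ (m.tT_conj (tE Bh (γ • Bh z' p • z) p) f' (map_one σ))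
  rw [e3, map_mul, map_mul, map_inv] at e4
  have e5 : Commute (ψ (tT Bh f 1)) (D (Bh z' p • z)) := h.fix i1.ww (by
    rw [m.lin_tT hf (map_one σ)]; simp [m.swap zf])
  refine mul_inv_eq_iff_eq_mul.1 ?_
  rw [gf h m hp hf, e1, e2, h.add _ _ i1]
  calc _ = D p * (D (Bh z' p • z) * (ψ (tE Bh (γ • Bh z' p • z) p) *
        ψ (tT Bh (f + (γ * Bh p f * Bh z' p) • z) 1) * (ψ (tE Bh (γ • Bh z' p • z) p))⁻¹) *
        (D (Bh z' p • z))⁻¹) * (D p)⁻¹ := by group
    _ = _ := by rw [e4, e5.symm.mul_inv_cancel]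

end D2f

theorem UD.stab {D : N → G} (h : UD ψ γ D) (m : UM6.Mo Bh) {p f : N} (hp : Bh p p = 0)
    (hf : Bh f f = 0) (a0 : Bh p f ≠ 0) {g : sIsom Bh}
    (hg : lin g (f + (γ * Bh p f) • p) = f + (γ * Bh p f) • p) :
    Commute (ψ g) (D p * ψ (tT Bh f 1) * (D p)⁻¹) := by
  have xx := D2f.xx m h.tr hp hf
  have px := D2f.px (γ := γ) (f := f) hp
  have a1 : σ (Bh p f) ≠ 0 := (map_ne_zero σ).2 a0
  have two := @D2f.two _ _ _ _ _ _ _ _ _ _ _ _ _ _ _ h m _ _ hp hf
  have of : ∀ y, Bh y p = 0 → Bh y (f + (γ * Bh p f) • p) = 0 → Bh y f = 0 := fun y h1 h2 => by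
    simpa [h1] using h2
  generalize f + (γ * Bh p f) • p = x at *
  have xp : Bh x p = σ (Bh p f) := by rw [← m.toHerm.conj, px]
  have mem : ∀ g, g ∈ (centralizer {D p * ψ (tT Bh f 1) * (D p)⁻¹}).comap ψ ↔
      Commute (ψ g) (D p * ψ (tT Bh f 1) * (D p)⁻¹) := fun g => mem_centralizer_singleton_iff
  have one : ∀ y, Bh y y = 0 → Bh x y = 0 → Bh p y = 0 →
      tT Bh y 1 ∈ (centralizer {D p * ψ (tT Bh f 1) * (D p)⁻¹}).comap ψ := fun y h1 h2 h3 => by
    refine (mem _).2 (mul_inv_eq_iff_eq_mul.1 ?_)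
    rw [D2f.gf h m hp hf, m.lin_tT h1 (map_one σ), m.lin_tT h1 (map_one σ), m.swap h3,
      of y (m.swap h3) (m.swap h2), mul_zero, zero_smul, add_zero, add_zero]
  refine (mem g).1 (gen_Fx0 m (by rw [xx]; exact mul_ne_zero a1 a0) (fun y h1 h2 => ?_) hg)
  by_cases h3 : Bh p y = 0
  · exact one y h1 h2 h3
  have n1 : y ∉ Submodule.span K {x, p} := fun e => by
    obtain ⟨s, r, rfl⟩ := Submodule.mem_span_pair.1 e
    simp only [map_add, LinearMap.map_smulₛₗ₂, map_smul, LinearMap.add_apply,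
      smul_eq_mul, hp, xx, px, xp] at h1 h2 h3
    have e1 : r = s * Bh p f := mul_right_cancel₀ a1 (by
      linear_combination h2 - (s * (σ (Bh p f) * Bh p f)) * m.two)
    rw [e1, map_mul] at h1
    have e2 : σ (s * Bh p f) * (s * Bh p f) = 0 := by
      rw [map_mul]
      linear_combination h1 - (σ s * s * (σ (Bh p f) * Bh p f)) * m.two
    exact h3 (by rw [D2f.nm0 e2, mul_zero, add_zero])
  obtain ⟨z, zz, xz, pz, yz⟩ := iso2 m n1
  have n2 : p ∉ Submodule.span K {x, z} := fun e => by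
    obtain ⟨s, r, e⟩ := Submodule.mem_span_pair.1 e
    have e1 : Bh p p = σ s * Bh x p + σ r * Bh z p := by
      conv_lhs => arg 1; rw [← e]
      simp
    have e2 : Bh x p = s * Bh x x + r * Bh x z := by
      rw [← e]; simp
    rw [hp, m.swap pz, mul_zero, add_zero, xp] at e1
    have e3 : s = 0 := (map_eq_zero σ).1 ((mul_eq_zero.1 e1.symm).resolve_right a1)
    rw [e3, xz, zero_mul, mul_zero, add_zero, xp] at e2
    exact a1 e2
  obtain ⟨w, ww, xw, zw, pw⟩ := iso2 m n2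
  have i : I2 Bh z (Bh p y • w) := ⟨zz, by simp [ww], by simp [zw]⟩
  have wx : Bh (Bh p y • w) x = 0 := by simp [m.swap xw]
  have g1 := (mem _).2 (two i (m.swap pz) (of z (m.swap pz) (m.swap xz)) wx)
  have gx : lin (tE Bh z (Bh p y • w)) x = x := by
    rw [m.lin_tE i, wx, m.swap xz, zero_smul, zero_smul, add_zero, add_zero]
  have zy : Bh z y = 1 := by rw [← m.toHerm.conj, yz, map_one]
  have g2 := one (lin (tE Bh z (Bh p y • w)) y) (by rw [lin_isom, h1])
    (by rw [← gx, lin_isom, h2]) (by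
      rw [m.lin_tE i, zy]
      simp only [map_add, map_smul, smul_eq_mul, pz, pw, mul_zero, add_zero, mul_one, one_mul]
      exact m.add_self _)
  rw [← m.tT_conj _ h1 (map_one σ)] at g2
  have g3 := mul_mem (mul_mem (inv_mem g1) g2) g1
  rwa [show ∀ a b : sIsom Bh, a⁻¹ * (a * b * a⁻¹) * a = b from fun a b => by group] at g3

theorem UD.wd {D : N → G} (h : UD ψ γ D) (m : UM6.Mo Bh) {p f p' f' : N} (hp : Bh p p = 0)
    (hf : Bh f f = 0) (hp' : Bh p' p' = 0) (hf' : Bh f' f' = 0) (e1 : Bh p f = Bh p' f')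
    (e2 : f + (γ * Bh p f) • p = f' + (γ * Bh p' f') • p') :
    D p * ψ (tT Bh f 1) * (D p)⁻¹ = D p' * ψ (tT Bh f' 1) * (D p')⁻¹ := by
  by_cases a0 : Bh p f = 0
  · have a1 : Bh p' f' = 0 := e1 ▸ a0
    rw [a0, a1, mul_zero, zero_smul, zero_smul, add_zero, add_zero] at e2
    subst e2
    have k : ∀ q, Bh q q = 0 → Bh q f = 0 → D q * ψ (tT Bh f 1) * (D q)⁻¹ = ψ (tT Bh f 1) :=
      fun q h1 h2 => (h.fix h1 (by
        rw [m.lin_tT hf (map_one σ), m.swap h2, mul_zero, zero_smul, add_zero])).symm.mul_inv_cancel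
    rw [k p hp a0, k p' hp' a1]
  have px := D2f.px (γ := γ) (f := f) hp
  have px' := D2f.px (γ := γ) (f := f') hp'
  rw [← e2, ← e1] at px'
  obtain ⟨g, hg⟩ := m.witt (D2f.li hp (px ▸ a0)) (D2f.li hp' (px' ▸ a0)) (fun a b => by
    fin_cases a <;> fin_cases b
    · rfl
    · exact (m.toHerm.conj _ _).symm.trans ((congrArg σ (px'.trans px.symm)).trans (m.toHerm.conj _ _))
    · exact px'.trans px.symm
    · exact hp'.trans hp.symm) (m.nonis _ (by simp))
  have g0 : lin g (f + (γ * Bh p f) • p) = f + (γ * Bh p f) • p := hg 0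
  have g1 : lin g p = p' := hg 1
  have g2 : lin g f = f' := by
    have := g0.trans e2
    rwa [map_add, map_smul, g1, e1, add_left_inj] at this
  rw [← g1, ← g2, ← D2f.gf h m hp hf, (h.stab m hp hf a0 g0).mul_inv_cancel]

end Gen

end Cfsg.Lib.SPU6
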