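import Cfsg.Agent.SPU6.M3
import Cfsg.Agent.SPU6.D2

/-!
# The unitary overgroups: the transvections of the larger unitary group
-/

set_option autoImplicit false
set_option linter.unusedSectionVars false

namespace Cfsg.Lib.SPU6

open Subgroup Module Cfsg.Lib.Trans Cfsg.Lib.Gold Cfsg.Lib.Class.Form Cfsg.Lib.Class.FAut
open Cfsg.Lib.UM6 (tT tE I2 I3 Fx Semi Mp Ot sg kk qn)
open Cfsg.Lib.SP7 (P2 P3 O3 G1 G2 T1 T3)
open scoped commutatorElement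

variable {G F M K N N' : Type*} [Group G] [Finite G] [Field F] [Finite F] [AddCommGroup M]
  [Module F M] [FiniteDimensional F M] [Field K] [Finite K] [AddCommGroup N] [Module K N]
  [FiniteDimensional K N] [AddCommGroup N'] [Module K N'] [FiniteDimensional K N'] {σ : K →+* K}
  {B : M →ₗ[F] M →ₗ[F] F} {Bh : N →ₛₗ[σ] N →ₗ[K] K} {Bh' : N' →ₛₗ[σ] N' →ₗ[K] K}
  {ρ : F →+* K} {β : F} {γ : K} {j : M →+ N} {v : N} {v' : N'} {ι : sIsom B →* sIsom Bh}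
  {ι' : sIsom Bh →* sIsom Bh'} {i : N →ₗ[K] N'} {φ : sIsom B →* G} {t : G} {H : M → M → G}
  {ψ : sIsom Bh →* G}

theorem UD.exY {D : N → G} (h : UD ψ γ D) (p : PL ι' i v') : ∃ Y : N' → G,
    (∀ x f, Bh x x = 0 → Bh f f = 0 →
      Y (lin (dm Bh' (i x) v' γ) (i f)) = D x * ψ (tT Bh f 1) * (D x)⁻¹) ∧
    (∀ g y, Bh' y y = 0 → ψ g * Y y * (ψ g)⁻¹ = Y (lin (ι' g) y)) ∧
    ∀ q y, Bh q q = 0 → Bh' y y = 0 → D q * Y y * (D q)⁻¹ = Y (lin (dm Bh' (i q) v' γ) y) := by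
  classical
  let P : N' → N × N → Prop := fun y r =>
    Bh r.1 r.1 = 0 ∧ Bh r.2 r.2 = 0 ∧ y = lin (dm Bh' (i r.1) v' γ) (i r.2)
  let Y : N' → G := fun y =>
    if k : ∃ r, P y r then D k.choose.1 * ψ (UM6.tT Bh k.choose.2 1) * (D k.choose.1)⁻¹ else 1
  have hY : ∀ x f, Bh x x = 0 → Bh f f = 0 →
      Y (lin (dm Bh' (i x) v' γ) (i f)) = D x * ψ (UM6.tT Bh f 1) * (D x)⁻¹ := fun x f hx hf => by
    have k : ∃ r, P (lin (dm Bh' (i x) v' γ) (i f)) r := ⟨(x, f), hx, hf, rfl⟩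
    obtain ⟨k1, k2, k3⟩ := k.choose_spec
    simp only [Y, dif_pos k]
    generalize k.choose = r at *
    rw [p.dm_i h.tr hx, p.dm_i h.tr k1] at k3
    exact (h.wd p.mo hx hf k1 k2 (p.inj k3).2 (p.inj k3).1).symm
  refine ⟨Y, hY, fun g y hy => ?_, fun q y hq hy => ?_⟩
  · obtain ⟨x, f, k, hf, rfl⟩ := p.cover h.tr hy (q := 0) (by simp)
    rw [← lin_mul, mul_inv_eq_iff_eq_mul.1 (p.dm_conj h.tr g k.ww), lin_mul, p.li, hY _ _ k.ww hf,
      hY _ _ ((lin_isom ..).trans k.ww) ((lin_isom ..).trans hf), ← h.eqv g x k.ww,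
      ← p.mo.tT_conj g hf (map_one σ), map_mul, map_mul, map_inv]
    group
  · obtain ⟨x, f, k, hf, rfl⟩ := p.cover h.tr hy hq
    rw [← lin_mul, eq_mul_inv_of_mul_eq (p.dm_add h.tr k).symm, lin_mul, ← map_inv, p.li,
      hY _ _ k.ww hf, hY _ _ (k.add p.mo) ((lin_isom ..).trans hf), h.add q x k,
      ← p.mo.tT_conj _ hf (map_one σ), map_mul, map_mul, map_inv, map_inv, map_inv]
    group

end Cfsg.Lib.SPU6
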