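import Cfsg.Agent.SPU6.Defs
import Cfsg.Agent.UM6.K3
import Cfsg.Agent.UM6.K4
import Cfsg.Agent.UM6.LIFT

/-!
# Homomorphisms from the special unitary group
-/

set_option autoImplicit false
set_option linter.unusedSectionVars false

namespace Cfsg.Lib.SPU6

open Subgroup Module Cfsg.Lib.Trans Cfsg.Lib.Gold Cfsg.Lib.Class.Form Cfsg.Lib.Class.FAut
open Cfsg.Lib.UM6 (tT tE I2 I3)

variable {G E M : Type*} [Group G] [Finite G] [Field E] [Finite E] [AddCommGroup M] [Module E M]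
  [FiniteDimensional E M] {σ : E →+* E} {B : M →ₛₗ[σ] M →ₗ[E] E}

set_option maxHeartbeats 800000 in
/-- A family which behaves like the transvections comes from a homomorphism. -/
theorem hom2 (m : UM6.Mo B) (y : M → G)
    (hx : (UM6.qn σ = 2 → finrank E M ≠ 6) ∨
      ∀ z : G, (∀ u, B u u = 0 → Commute z (y u)) → Odd (orderOf z)) (y0 : y 0 = 1) (sq : ∀ u, B u u = 0 → y u * y u = 1)
    (un : ∀ (a : E) u, B u u = 0 → σ a * a = 1 → y (a • u) = y u)
    (cj : ∀ u w, B u u = 0 → B w w = 0 → y w * y u * (y w)⁻¹ = y (lin (tT B w 1) u))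
    {u w x : M} (k : I3 B u w x) (li : LinearIndependent E ![u, w, x])
    (rel : y (u + (w + x)) * y u * y (w + x) = y (u + w) * y u * y w * (y (u + x) * y u * y x)) :
    ∃ ψ : sIsom B →* G, ∀ u, B u u = 0 → ψ (tT B u 1) = y u := by
  have o := map_one σ
  let Γ : Subgroup (G × sIsom B) := closure {p | ∃ u, B u u = 0 ∧ p = (y u, tT B u 1)}
  let γ : ∀ u, B u u = 0 → Γ := fun u hu => ⟨(y u, tT B u 1), subset_closure ⟨u, hu, rfl⟩⟩
  have iso : ∀ (g : sIsom B) u, B u u = 0 → B (lin g u) (lin g u) = 0 := fun g u hu =>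
    ((I2.self hu).lin g).uu
  have act : ∀ p : Γ, ∀ u hu, p * γ u hu * p⁻¹ = γ (lin p.1.2 u) (iso _ u hu) := by
    rintro ⟨p, hp⟩
    suffices ∀ u, B u u = 0 → p.1 * y u * p.1⁻¹ = y (lin p.2 u) from fun u hu =>
      Subtype.ext (Prod.ext (this u hu) (m.tT_conj _ hu o))
    induction hp using closure_induction with
    | mem x hx => obtain ⟨w, hw, rfl⟩ := hx; exact fun u hu => cj u w hu hw
    | one => simp
    | mul a b _ _ ha hb =>
      intro u hu
      rw [Prod.snd_mul, lin_mul, ← ha _ (iso _ u hu), ← hb u hu, Prod.fst_mul]; group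
    | inv a _ ha =>
      intro u hu
      have := ha _ (iso a.2⁻¹ u hu)
      rw [lin_lin_inv] at this
      rw [← this, Prod.fst_inv, Prod.snd_inv]; group
  have gen : ∀ H : Subgroup Γ, (∀ u hu, γ u hu ∈ H) → H = ⊤ := fun H k => eq_top_iff.2 (by
    rintro ⟨p, hp⟩ -
    induction hp using closure_induction with
    | mem x hx => obtain ⟨w, hw, rfl⟩ := hx; exact k w hw
    | one => exact one_mem H
    | mul a b _ _ ha hb => exact mul_mem ha hb
    | inv a _ ha => exact inv_mem ha)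
  have on : ∀ g, ∃ p : Γ, p.1.2 = g := fun g =>
    (m.gen_T (H := ((MonoidHom.snd _ _).comp Γ.subtype).range) fun u hu => ⟨γ u hu, rfl⟩).ge (mem_top g)
  have g0 : ∀ hu, γ 0 hu = 1 := fun _ => Subtype.ext (Prod.ext y0 (m.tT_zero' 1))
  have g2 : ∀ u hu, γ u hu * γ u hu = 1 := fun u hu => Subtype.ext (Prod.ext (sq u hu) (m.tT_sq hu o))
  let π : Γ →* PG B := (QuotientGroup.mk' _).comp ((MonoidHom.snd _ _).comp Γ.subtype)
  have hk : π.ker ≤ center Γ := fun p hp => by
    have c : p.1.2 ∈ center _ := (QuotientGroup.eq_one_iff _).1 hp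
    refine mem_center_iff.2 fun q => (mem_C1.1 ((gen (C1 p) fun u hu => mem_C1.2 ?_).ge (mem_top q)))
    rw [eq_comm, ← mul_inv_eq_iff_eq_mul, act p u hu]
    have e : tT B u 1 = tT B (lin p.1.2 u) 1 := by
      rw [← m.tT_conj _ hu o, ← mem_center_iff.1 c, mul_inv_cancel_right]
    refine Subtype.ext (Prod.ext ?_ e.symm)
    by_cases u0 : u = 0
    · simp [u0, γ]
    · obtain ⟨a, -, e1, e2⟩ := m.tT_dep hu u0 (iso _ u hu) o one_ne_zero o e
      exact (congrArg y e1).trans (un a u hu (by rwa [mul_one] at e2))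
  have hp : commutator Γ = ⊤ := by
    have hu := k.uu
    have u0 : u ≠ 0 := li.ne_zero 0
    have e1 : ∀ v hv, v ≠ 0 → Abelianization.of (γ v hv) = Abelianization.of (γ u hu) :=
      fun v hv v0 => by
        obtain ⟨g, rfl⟩ := m.tr1 hu u0 hv v0
        obtain ⟨p, rfl⟩ := on g
        rw [← act p u hu, map_mul, map_mul, map_inv, mul_inv_cancel_comm]
    have nz : ∀ a b c : E, a • u + (b • w + c • x) = 0 → a = 0 ∧ b = 0 ∧ c = 0 := fun a b c e => by
      have := Fintype.linearIndependent_iff.1 li ![a, b, c] (by simpa [Fin.sum_univ_succ] using e)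
      exact ⟨this 0, this 1, this 2⟩
    have k1 : I2 B u x := ⟨hu, k.xx, k.ux⟩
    have k2 : I2 B w x := ⟨k.ww, k.xx, k.wx⟩
    have k3 : I2 B u (w + x) := ⟨hu, k2.add m, by simp [k.uw, k.ux]⟩
    have e2 : γ _ (k3.add m) * γ u hu * γ _ k3.ww = γ _ (k.toI2.add m) * γ u hu * γ w k.ww *
        (γ _ (k1.add m) * γ u hu * γ x k.xx) := Subtype.ext (Prod.ext rel (by
      have := m.tE_add k
      rwa [m.tE_eq k3, m.tE_eq k.toI2, m.tE_eq k1] at this))
    have e3 := congrArg Abelianization.of e2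
    have e4 := congrArg Abelianization.of (g2 u hu)
    simp only [map_mul, map_one] at e4
    simp only [map_mul, e1 _ (k3.add m) fun e => one_ne_zero (nz 1 1 1 (by simpa using e)).1,
      e1 _ k3.ww fun e => one_ne_zero (nz 0 1 1 (by simpa using e)).2.1,
      e1 _ (k.toI2.add m) fun e => one_ne_zero (nz 1 1 0 (by simpa using e)).1,
      e1 _ (k1.add m) fun e => one_ne_zero (nz 1 0 1 (by simpa using e)).1,
      e1 _ k.ww fun e => one_ne_zero (nz 0 1 0 (by simpa using e)).2.1,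
      e1 _ k.xx fun e => one_ne_zero (nz 0 0 1 (by simpa using e)).2.2, e4, one_mul] at e3
    refine gen _ fun v hv => ?_
    rw [← Abelianization.ker_of, MonoidHom.mem_ker]
    by_cases v0 : v = 0
    · subst v0; rw [g0 hv, map_one]
    · rw [e1 v hv v0, e3]
  have hs : Function.Surjective π := fun z => by
    obtain ⟨g, rfl⟩ := QuotientGroup.mk_surjective z
    obtain ⟨p, rfl⟩ := on g
    exact ⟨p, rfl⟩
  obtain ⟨ψ, s, e⟩ : ∃ ψ : sIsom B →* Γ, Function.Surjective ψ ∧
      ∀ g : sIsom B, π (ψ g) = (g : PG B) := by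
    rcases hx with hx | hx
    · exact m.lift' hx π hs hk hp
    refine m.oddLift π hs hk hp ?_
    by_contra ho
    obtain ⟨p, e⟩ := exists_prime_orderOf_dvd_card' 2 (Nat.not_odd_iff_even.1 ho).two_dvd
    have p2 : p * p = 1 := (pow_two p).symm.trans (e ▸ pow_orderOf_eq_one p)
    have q2 : p.1.1 * p.1.1 = 1 := congrArg (fun q : π.ker => q.1.1) p2
    have o1 : Odd (orderOf p.1.1.1) := hx _ fun u hu =>
      (congrArg (fun q : Γ => q.1.1) (mem_center_iff.1 (hk p.2) (γ u hu))).symm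
    have o2 : Odd (orderOf p.1.1.2) := m.odd_center ((QuotientGroup.eq_one_iff _).1 p.2)
    have a1 : p.1.1.1 = 1 := orderOf_eq_one_iff.1 (o1.coprime_two_right.eq_one_of_dvd
      (orderOf_dvd_of_pow_eq_one ((pow_two _).trans (congrArg Prod.fst q2))))
    have a2 : p.1.1.2 = 1 := orderOf_eq_one_iff.1 (o2.coprime_two_right.eq_one_of_dvd
      (orderOf_dvd_of_pow_eq_one ((pow_two _).trans (congrArg Prod.snd q2))))
    rw [show p = 1 from Subtype.ext (Subtype.ext (Prod.ext a1 a2)), orderOf_one] at e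
    omega
  refine ⟨(MonoidHom.fst _ _).comp (Γ.subtype.comp ψ), fun u hu => ?_⟩
  suffices ψ (tT B u 1) = γ u hu from congrArg (fun p : Γ => p.1.1) this
  obtain ⟨g, eg⟩ := s ((γ u hu)⁻¹ * ψ (tT B u 1))
  have k1 : π (ψ g) = 1 := by rw [eg, map_mul, map_inv, e]; exact inv_mul_cancel _
  have k2 := m.odd_center ((QuotientGroup.eq_one_iff _).1 ((e g).symm.trans k1))
  have k3 : ψ g * ψ g = 1 := by
    have := mem_center_iff.1 (hk k1) (γ u hu)⁻¹
    nth_rw 2 [eg]
    rw [← mul_assoc, ← this, eg, mul_assoc, mul_assoc, ← map_mul, m.tT_sq hu o, map_one, mul_one,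
      ← mul_inv_rev, g2 u hu, inv_one]
  rw [eq_comm, ← inv_mul_eq_one, ← eg]
  exact orderOf_eq_one_iff.1 ((k2.of_dvd_nat (orderOf_map_dvd ψ g)).coprime_two_right.eq_one_of_dvd
    (orderOf_dvd_of_pow_eq_one ((pow_two _).trans k3)))

theorem mod_of {ψ : sIsom B →* G} (m : UM6.Mo B) {g : sIsom B} (k : ψ g ≠ 1) : UM6.Mod ψ :=
  ⟨m, (m.normal_or ψ.ker inferInstance).resolve_right fun e => k (e.ge (mem_top g))⟩

end Cfsg.Lib.SPU6
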