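import Cfsg.Agent.SPU6.M3
import Cfsg.Agent.SPU6.D2
import Cfsg.Agent.SPU6.D3
import Cfsg.Agent.SPU6.HOM
import Cfsg.Agent.UM6.K4

/-!
# The unitary overgroups: extension to the odd-dimensional group
-/

set_option autoImplicit false
set_option linter.unusedSectionVars false
set_option linter.unusedVariables false

namespace Cfsg.Lib.SPU6

open Subgroup Module Cfsg.Lib.Trans Cfsg.Lib.Gold Cfsg.Lib.Class.Form Cfsg.Lib.Class.FAut
open Cfsg.Lib.UM6 (tT tE I2 I3 Fx Semi Mp Ot sg kk qn)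
open Cfsg.Lib.SP7 (P2 P3 O3 G1 G2 T1 T3)
open scoped commutatorElement

universe v

section Gen
variable {G F M K N N' : Type*} [Group G] [Finite G] [Field F] [Finite F] [AddCommGroup M]
  [Module F M] [FiniteDimensional F M] [Field K] [Finite K] [AddCommGroup N] [Module K N]
  [FiniteDimensional K N] [AddCommGroup N'] [Module K N'] [FiniteDimensional K N'] {σ : K →+* K}
  {B : M →ₗ[F] M →ₗ[F] F} {Bh : N →ₛₗ[σ] N →ₗ[K] K} {Bh' : N' →ₛₗ[σ] N' →ₗ[K] K}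
  {ρ : F →+* K} {β : F} {γ : K} {j : M →+ N} {v : N} {v' : N'} {ι : sIsom B →* sIsom Bh}
  {ι' : sIsom Bh →* sIsom Bh'} {i : N →ₗ[K] N'} {φ : sIsom B →* G} {t : G} {H : M → M → G}
  {ψ : sIsom Bh →* G}

namespace D4

theorem rmul {Y : N' → G} {g g' : G} {s s' : sIsom Bh'}
    (k : ∀ y, Bh' y y = 0 → g * Y y * g⁻¹ = Y (lin s y))
    (k' : ∀ y, Bh' y y = 0 → g' * Y y * g'⁻¹ = Y (lin s' y)) :
    ∀ y, Bh' y y = 0 → g * g' * Y y * (g * g')⁻¹ = Y (lin (s * s') y) := fun y hy => by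
  rw [lin_mul, ← k _ (by rw [lin_isom]; exact hy), ← k' y hy]
  group

theorem rinv {Y : N' → G} {g : G} {s : sIsom Bh'}
    (k : ∀ y, Bh' y y = 0 → g * Y y * g⁻¹ = Y (lin s y)) :
    ∀ y, Bh' y y = 0 → g⁻¹ * Y y * g⁻¹⁻¹ = Y (lin s⁻¹ y) := fun y hy => by
  have e := k (lin s⁻¹ y) (by rw [lin_isom]; exact hy)
  rw [lin_lin_inv] at e
  rw [← e]
  group

end D4

theorem UD.ext {D : N → G} (h : UD ψ γ D) (p : PL ι' i v') : ∃ ψ' : sIsom Bh' →* G,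
    (∀ g, ψ' (ι' g) = ψ g) ∧ ∀ x, Bh x x = 0 → ψ' (dm Bh' (i x) v' γ) = D x := by
  obtain ⟨Y, Y1, Y2, Y3⟩ := h.exY p
  have m := p.mo
  have m' := p.mo'
  have z0 : Bh 0 0 = 0 := map_zero _
  have Y0 : ∀ f, Bh f f = 0 → Y (i f) = ψ (UM6.tT Bh f 1) := fun f hf => by
    have e := Y1 0 f z0 hf
    rw [p.dm_zero, lin_one, h.d0, one_mul, inv_one, mul_one] at e
    exact e
  have cov : ∀ y, Bh' y y = 0 → ∃ x f, Bh x x = 0 ∧ Bh f f = 0 ∧
      y = lin (dm Bh' (i x) v' γ) (i f) := fun y hy => by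
    obtain ⟨x, f, k, hf, e⟩ := p.cover h.tr hy z0
    exact ⟨x, f, k.ww, hf, e⟩
  obtain ⟨u, u0, hu⟩ := m.exists_iso
  obtain ⟨w, k2, l2⟩ := m.ext2 hu u0
  obtain ⟨x, k3, l3⟩ := m.ext3 k2 l2
  obtain ⟨k3', l3'⟩ := p.li3 k3 l3
  have kux : I2 Bh u x := ⟨k3.uu, k3.xx, k3.ux⟩
  have kwx : I2 Bh w x := ⟨k3.ww, k3.xx, k3.wx⟩
  have kuwx : I2 Bh u (w + x) := ⟨k3.uu, kwx.add m, by rw [map_add, k3.uw, k3.ux, add_zero]⟩
  obtain ⟨ψ', hψ⟩ := hom2 (G := G) m' Y (.inl fun _ => by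
      have h1 := Submodule.finrank_lt (s := LinearMap.range i) fun e => by
        obtain ⟨z, hz⟩ := e.ge (Submodule.mem_top (x := v'))
        have := p.iv z
        rw [hz, p.vv] at this
        exact one_ne_zero this
      rw [LinearMap.finrank_range_of_inj p.i_inj] at h1
      have := m.six
      omega)
    (by rw [← map_zero i, Y0 0 z0, m.tT_zero', map_one])
    (fun y hy => by
      obtain ⟨x, f, hx, hf, rfl⟩ := cov y hy
      rw [Y1 x f hx hf]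
      have e := congrArg ψ (m.tT_sq hf (map_one σ))
      rw [map_mul, map_one] at e
      calc _ = D x * (ψ (UM6.tT Bh f 1) * ψ (UM6.tT Bh f 1)) * (D x)⁻¹ := by group
        _ = 1 := by rw [e, mul_one, mul_inv_cancel])
    (fun a y hy ha => by
      obtain ⟨x, f, hx, hf, rfl⟩ := cov y hy
      rw [← map_smul, ← map_smul, Y1 x f hx hf, Y1 x _ hx ((I2.self hf).smul a a).uu,
        m.tT_smul hf a (map_one σ), ha, mul_one])
    (fun y z hy hz => by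
      obtain ⟨x, f, hx, hf, rfl⟩ := cov z hz
      have e := D4.rmul (D4.rmul (fun y hy => Y3 x y hx hy) (fun y hy => Y2 (UM6.tT Bh f 1) y hy))
        (D4.rinv (fun y hy => Y3 x y hx hy)) y hy
      rw [p.tT hf (map_one σ), m'.tT_conj _ (by rw [p.form]; exact hf) (map_one σ)] at e
      rw [Y1 x f hx hf]
      exact e)
    k3' l3'
    (by
      rw [← map_add, ← map_add, ← map_add, ← map_add, Y0 _ (kuwx.add m), Y0 _ hu, Y0 _ kuwx.ww,
        Y0 _ (k2.add m), Y0 _ k2.ww, Y0 _ (kux.add m), Y0 _ kux.ww]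
      have e := congrArg ψ (m.tE_add k3)
      rw [m.tE_eq kuwx, m.tE_eq k2, m.tE_eq kux] at e
      simpa only [map_mul] using e)
  have res : ∀ g, ψ' (ι' g) = ψ g := by
    have e : ψ'.comp ι' = ψ := m.hom_ext fun f hf => by
      rw [MonoidHom.comp_apply, p.tT hf (map_one σ), hψ _ (by rw [p.form]; exact hf), Y0 f hf]
    exact fun g => DFunLike.congr_fun e g
  have cjD : ∀ q, Bh q q = 0 → ∀ s, D q * ψ' s * (D q)⁻¹ =
      ψ' (dm Bh' (i q) v' γ * s * (dm Bh' (i q) v' γ)⁻¹) := fun q hq s => by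
    have e : (MulAut.conj (D q)).toMonoidHom.comp ψ' =
        ψ'.comp (MulAut.conj (dm Bh' (i q) v' γ)).toMonoidHom := m'.hom_ext fun y hy => by
      change D q * ψ' (UM6.tT Bh' y 1) * (D q)⁻¹ =
        ψ' (dm Bh' (i q) v' γ * UM6.tT Bh' y 1 * (dm Bh' (i q) v' γ)⁻¹)
      rw [m'.tT_conj _ hy (map_one σ), hψ _ hy, hψ _ (by rw [lin_isom]; exact hy), Y3 q y hq hy]
    exact DFunLike.congr_fun e s
  refine ⟨ψ', res, fun z hz => ?_⟩
  by_cases z1 : z = 0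
  · rw [z1, p.dm_zero, map_one, h.d0]
  obtain ⟨q, kq, lq⟩ := m.ext2 hz z1
  have kq' := kq.symm m
  have q0 : q ≠ 0 := by simpa using lq.ne_zero 1
  have q1 : q + z ≠ 0 := fun e => by
    have := (LinearIndependent.pair_iff.1 lq) 1 1 (by rw [one_smul, one_smul, add_comm, e])
    exact one_ne_zero this.1
  obtain ⟨g, hg⟩ := m.tr1 kq.ww q0 (kq'.add m) q1
  have e1 := h.eqv g q kq.ww
  rw [hg, h.add q z kq'] at e1
  have e2 := p.dm_conj h.tr g kq.ww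
  rw [hg, p.dm_add h.tr kq'] at e2
  have e3 := cjD q kq.ww ((dm Bh' (i q) v' γ)⁻¹ * ι' g * dm Bh' (i q) v' γ)
  have e4 : dm Bh' (i z) v' γ = (dm Bh' (i q) v' γ)⁻¹ * ι' g * dm Bh' (i q) v' γ * (ι' g)⁻¹ *
      (ι' (UM6.tE Bh (γ • z) q))⁻¹ := by
    rw [show (dm Bh' (i q) v' γ)⁻¹ * ι' g * dm Bh' (i q) v' γ * (ι' g)⁻¹ =
      (dm Bh' (i q) v' γ)⁻¹ * (ι' g * dm Bh' (i q) v' γ * (ι' g)⁻¹) by group, e2]
    group
  have e5 : D z = (D q)⁻¹ * ψ g * D q * (ψ g)⁻¹ * (ψ (UM6.tE Bh (γ • z) q))⁻¹ := by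
    rw [show (D q)⁻¹ * ψ g * D q * (ψ g)⁻¹ = (D q)⁻¹ * (ψ g * D q * (ψ g)⁻¹) by group, e1]
    group
  rw [show dm Bh' (i q) v' γ * ((dm Bh' (i q) v' γ)⁻¹ * ι' g * dm Bh' (i q) v' γ) *
    (dm Bh' (i q) v' γ)⁻¹ = ι' g by group, res] at e3
  rw [e4, e5, map_mul, map_mul, map_inv, map_inv, res, res, ← e3]
  group

end Gen

end Cfsg.Lib.SPU6
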