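import Cfsg.Agent.SPU6.M0
import Cfsg.Agent.SP7.GEN
import Cfsg.Agent.UM6.A1

/-!
# Unitary overgroups of `Sp_{2k}(2ⁿ)`: the embedding of the symplectic group
-/

set_option autoImplicit false
set_option linter.unusedSectionVars false
set_option linter.unusedVariables false

namespace Cfsg.Lib.SPU6

open Subgroup Module Cfsg.Lib.Trans Cfsg.Lib.Gold Cfsg.Lib.Class.Form Cfsg.Lib.Class.FAut
open Cfsg.Lib.UM6 (tT tE I2 I3 Fx Semi Mp Ot sg kk qn)
open Cfsg.Lib.SP7 (P2 P3 O3 G1 G2 T1 T3)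
open scoped commutatorElement

variable {G F M K N N' : Type*} [Group G] [Finite G] [Field F] [Finite F] [AddCommGroup M]
  [Module F M] [FiniteDimensional F M] [Field K] [Finite K] [AddCommGroup N] [Module K N]
  [FiniteDimensional K N] [AddCommGroup N'] [Module K N'] [FiniteDimensional K N'] {σ : K →+* K}
  {B : M →ₗ[F] M →ₗ[F] F} {Bh : N →ₛₗ[σ] N →ₗ[K] K} {Bh' : N' →ₛₗ[σ] N' →ₗ[K] K}
  {ρ : F →+* K} {β : F} {γ : K} {j : M →+ N} {v : N} {v' : N'} {ι : sIsom B →* sIsom Bh}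
  {ι' : sIsom Bh →* sIsom Bh'} {i : N →ₗ[K] N'} {φ : sIsom B →* G} {t : G} {H : M → M → G}
  {ψ : sIsom Bh →* G}


theorem Em.lin2 (e : Em ι j v) (g : sIsom B) (u w : M) :
    lin (ι g) (j u + γ • j w) = j (lin g u) + γ • j (lin g w) := by
  rw [map_add, map_smul, e.lj, e.lj]

theorem Em.inj (e : Em ι j v) (h : RF B Bh ρ β γ j v) : Function.Injective ι := fun g g' k =>
  lin_ext fun u => h.j_inj (by rw [← e.lj, ← e.lj, k])

theorem M1.tT (h : RF B Bh ρ β γ j v) (u : M) (c : F) :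
    (∀ z, lin (tT Bh (j u) (ρ c)) (j z) = j (lin (tT B u c) z)) ∧
      lin (tT Bh (j u) (ρ c)) v = v := by
  refine ⟨fun z => ?_, ?_⟩ <;> rw [h.mo.lin_tT (h.iso u) (h.sρ c)]
  · rw [h.sp.lin_tT, map_add, h.smul, map_mul, h.form]
  · rw [h.jv, mul_zero, zero_smul, add_zero]

theorem Em.tT (e : Em ι j v) (h : RF B Bh ρ β γ j v) (u : M) (c : F) :
    ι (tT B u c) = tT Bh (j u) (ρ c) :=
  h.ext (fun z => (e.lj _ z).trans ((M1.tT h u c).1 z).symm) ((e.lv _).trans (M1.tT h u c).2.symm)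

theorem Em.tE (e : Em ι j v) (h : RF B Bh ρ β γ j v) {u w : M} (k : B u w = 0) :
    ι (tE B u w) = tE Bh (j u) (j w) := by
  refine h.ext (fun z => ?_) ?_ <;> rw [h.mo.lin_tE (h.i2 k)]
  · rw [e.lj, h.sp.lin_tE k, map_add, map_add, h.smul, h.smul, h.form, h.form]
  · rw [e.lv, h.jv, h.jv, zero_smul, zero_smul, add_zero, add_zero]

theorem RF.lin_E (h : RF B Bh ρ β γ j v) {z y : M} (k : B z y = 0) (x : N) :
    lin (tE Bh (γ • j z) (j y)) x = x + (σ γ * Bh (j z) x) • j y + (γ * Bh (j y) x) • j z := by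
  rw [h.mo.lin_tE (h.i2γ k), smul_smul, mul_comm _ γ, map_smulₛₗ, LinearMap.smul_apply, smul_eq_mul]

theorem RF.tT2 (h : RF B Bh ρ β γ j v) (e : Em ι j v) {u w : M} (k : B u w = 0) (c : F) :
    tT Bh (j u + γ • j w) (ρ c) = ι (tT B u c * tT B w (β * c)) * tE Bh (γ • j w) (j (c • u)) := by
  have k1 : I2 Bh (j u) (γ • j w) := (h.i2γ (h.sp.swap k)).symm h.mo
  rw [h.mo.tT_vadd k1 (h.sρ c), h.mo.tT_smul (h.iso w) γ (h.sρ c), h.toQE.nγ, map_mul, e.tT h,
    e.tT h, map_mul, h.mo.tE_comm (h.i2γ (by simp [h.sp.swap k])), h.smul, h.mo.tE_smul k1, h.sρ]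

theorem RF.E_swap (h : RF B Bh ρ β γ j v) (e : Em ι j v) {u w : M} (k : B u w = 0) :
    tE Bh (γ • j w) (j u) = tE Bh (γ • j u) (j w) * ι (tE B u w) := lin_ext fun x => by
  simp only [e.tE h k, lin_mul, h.lin_E k, h.lin_E (h.sp.swap k), h.mo.lin_tE (h.i2 k), map_add,
    map_smul, h.form, k, h.sp.swap k, h.sp.alt, map_zero, smul_zero, add_zero, h.sγ]
  match_scalars
  · rfl
  · ring
  · linear_combination (-Bh (j u) x) * h.mo.two

theorem RF.E_shift (h : RF B Bh ρ β γ j v) (e : Em ι j v) {u w : M} (k : B u w = 0) (a : F) :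
    tE Bh (γ • j u) (j w) = tE Bh (γ • j u) (j (w + a • u)) * ι (tT B u a) := lin_ext fun x => by
  rw [lin_mul, h.lin_E k, h.lin_E (by simp [k, h.sp.alt])]
  simp only [e.tT h, h.mo.lin_tT (h.iso u) (h.sρ a), map_add, map_smulₛₗ, h.smul,
    h.form, h.sp.swap k, h.sp.alt, map_zero, add_zero, h.sγ, h.sρ,
    LinearMap.add_apply, LinearMap.smul_apply, smul_eq_mul, mul_zero]
  match_scalars
  · rfl
  · ring
  · linear_combination (-(γ + 1) * ρ a * Bh (j u) x) * h.mo.two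

theorem RF.E_mul (h : RF B Bh ρ β γ j v) (e : Em ι j v) {w y y' : M} (k : B w y = 0)
    (k' : B w y' = 0) : tE Bh (γ • j w) (j y) * tE Bh (γ • j w) (j y') =
      tE Bh (γ • j w) (j (y + y')) * ι (tT B w (β * B y y')) := lin_ext fun x => by
  rw [lin_mul, lin_mul, h.lin_E k, h.lin_E k', h.lin_E (by simp [k, k']), e.tT h,
    h.mo.lin_tT (h.iso w) (h.sρ _)]
  simp only [map_add, map_smul, map_mul, h.form, k', h.sp.swap k, h.sp.swap k', h.sp.alt, map_zero,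
    add_zero, LinearMap.add_apply, smul_eq_mul, mul_zero, ← h.toQE.nγ]
  module

theorem RF.gen (h : RF B Bh ρ β γ j 0) (e : Em ι j 0) {A : Subgroup (sIsom Bh)} (k1 : ∀ g, ι g ∈ A)
    (k2 : ∀ u w, B u w = 0 → tE Bh (γ • j u) (j w) ∈ A) : A = ⊤ := h.mo.gen_T fun x hx => by
  obtain ⟨u, w, rfl⟩ := h.co0 x
  have k := (h.iso_iff u w).1 hx
  rw [← map_one ρ, h.tT2 e k]
  exact mul_mem (k1 _) (k2 _ _ (by simp [h.sp.swap k]))

theorem RF.em (h : RF B Bh ρ β γ j v) : ∃ ι : sIsom B →* sIsom Bh, Em ι j v := by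
  let S : Subgroup (sIsom B) :=
    { carrier := {g | ∃ s : sIsom Bh, (∀ u, lin s (j u) = j (lin g u)) ∧ lin s v = v}
      one_mem' := ⟨1, fun _ => rfl, rfl⟩
      mul_mem' := fun ⟨s, a, b⟩ ⟨s', a', b'⟩ =>
        ⟨s * s', fun u => by rw [lin_mul, a', a, lin_mul], by rw [lin_mul, b', b]⟩
      inv_mem' := fun {g} ⟨s, a, b⟩ => ⟨s⁻¹, fun u => by
        rw [← lin_inv_lin s (j (lin g⁻¹ u)), a, lin_lin_inv], by
        conv_lhs => rw [← b, lin_inv_lin]⟩ }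
  have k : S = ⊤ := h.sp.gen_T fun u => ⟨_, M1.tT h u 1⟩
  choose s a b using fun g => (k.ge (mem_top g) : g ∈ S)
  exact ⟨MonoidHom.mk' s fun g g' => h.ext (fun u => by rw [lin_mul, a, a, a, lin_mul])
    (by rw [lin_mul, b, b, b]), a, b⟩

theorem RF.conj (h : RF B Bh ρ β γ j v) :
    ∃ (α : MulAut (sIsom Bh)) (Γ : N ≃+ N), Semi α Γ (sg σ) ∧ (∀ u, Γ (j u) = j u) ∧ Γ v = v := by
  obtain ⟨f, hf⟩ := h.exists_map j (σ γ • j) (AddMonoidHom.mk' (fun k => σ k • v)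
    fun a b => by rw [map_add, add_smul]) fun e k => by simp [e]
  simp only [AddMonoidHom.smul_apply, AddMonoidHom.mk'_apply] at hf
  have h1 : ∀ (c : K) u, f (c • j u) = σ c • j u := fun c u => by
    obtain ⟨a, b, rfl⟩ := h.co c
    have := hf (a • u) (b • u) 0
    simp only [h.smul, zero_smul, add_zero, map_zero, smul_smul, ← add_smul] at this
    rw [this, map_add, map_mul, h.sρ, h.sρ]
  have h2 : ∀ c : K, f (c • v) = σ c • v := fun c => by simpa using hf 0 0 c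
  have h3 : ∀ u, f (j u) = j u := fun u => by simpa using h1 1 u
  have h4 : Function.Involutive f := fun x => by
    obtain ⟨u, w, k, rfl⟩ := h.span x
    simp only [map_add, h1, h2, h3, h.toQE.ss]
  obtain ⟨α, k⟩ := h.mo.of_semi { h4.toPerm f with map_add' := f.map_add } (sg σ)
    (fun a x => by
      obtain ⟨u, w, k, rfl⟩ := h.span x
      change f _ = _ • f _
      simp only [smul_add, smul_smul, map_add, h1, h2, h3, map_mul, h.mo.sg_apply])
    fun x y => by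
      obtain ⟨u, w, k, rfl⟩ := h.span x
      obtain ⟨u', w', k', rfl⟩ := h.span y
      change Bh (f _) (f _) = _
      rw [hf, hf, h.mo.sg_apply]
      simp only [map_add, map_smulₛₗ, LinearMap.add_apply, LinearMap.smul_apply, smul_eq_mul,
        RingHom.id_apply, map_mul, h.form, h.jv, h.vj, h.sρ, map_zero, h.mo.toHerm.conj v v]
  exact ⟨α, _, k, h3, show f v = v by simpa using h2 1⟩

theorem RF.α_ι (h : RF B Bh ρ β γ j v) (e : Em ι j v) {α : MulAut (sIsom Bh)} {Γ : N ≃+ N}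
    (k : Semi α Γ (sg σ)) (k1 : ∀ u, Γ (j u) = j u) (k2 : Γ v = v) (g : sIsom B) :
    α (ι g) = ι g := h.ext (fun u => by rw [← k1, k.conj, e.lj, k1, k1, e.lj])
  (by rw [e.lv, ← k2, k.conj, e.lv])

theorem RF.α_E (h : RF B Bh ρ β γ j v) (e : Em ι j v) {α : MulAut (sIsom Bh)} {Γ : N ≃+ N}
    (k : Semi α Γ (sg σ)) (k1 : ∀ u, Γ (j u) = j u) {u w : M} (huw : B u w = 0) :
    α (tE Bh (γ • j u) (j w)) = tE Bh (γ • j u) (j w) * ι (tE B u w) := by
  rw [k.tE h.mo (h.i2γ huw), k.smul, k1, k1, h.mo.sg_apply, h.sγ, add_smul, one_smul, e.tE h huw]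
  exact h.mo.tE_add' ⟨(h.i2γ huw).symm h.mo, h.iso u, (h.i2 (h.sp.swap huw)).uw,
    (h.i2γ (h.sp.alt u)).uw⟩

end Cfsg.Lib.SPU6
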