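import Cfsg.Agent.SPU6.M1
import Cfsg.Agent.SPU6.T1
import Cfsg.Agent.SPU6.HOM
import Cfsg.Agent.SP7.KIT
import Cfsg.Agent.SP7.K4

set_option autoImplicit false
set_option linter.unusedSectionVars false
set_option linter.unusedVariables false

namespace Cfsg.Lib.SPU6

open Subgroup Module Cfsg.Lib.Trans Cfsg.Lib.Gold Cfsg.Lib.Class.Form Cfsg.Lib.Class.FAut
open Cfsg.Lib.UM6 (tT tE I2 I3 Fx Semi Mp Ot sg kk qn)
open Cfsg.Lib.SP7 (P2 P3 O3 G1 G2 T1 T3)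
open scoped commutatorElement

variable {G F M K N N' : Type*} [Group G] [Finite G] [Field F] [Finite F] [AddCommGroup M]
  [Module F M] [FiniteDimensional F M] [Field K] [Finite K] [AddCommGroup N] [Module K N]
  [FiniteDimensional K N] [AddCommGroup N'] [Module K N'] [FiniteDimensional K N'] {σ : K →+* K}
  {B : M →ₗ[F] M →ₗ[F] F} {Bh : N →ₛₗ[σ] N →ₗ[K] K} {Bh' : N' →ₛₗ[σ] N' →ₗ[K] K}
  {ρ : F →+* K} {β : F} {γ : K} {j : M →+ N} {v : N} {v' : N'} {ι : sIsom B →* sIsom Bh}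
  {ι' : sIsom Bh →* sIsom Bh'} {i : N →ₗ[K] N'} {φ : sIsom B →* G} {t : G} {H : M → M → G}
  {ψ : sIsom Bh →* G}

theorem tu_of_T1 (h : T1 φ t H β) : TU φ t H β := ⟨h.toTH, h.mul⟩

theorem tu_of_T3 {D : M → G} (h : T3 φ t H D β) : TU φ t H β :=
  ⟨h.toTH, fun w y y' k k' => by
    have := h.mul w y y' 0 k k' (by rw [h.toMo.add_self, zero_mul, zero_mul])
    rwa [zero_smul, h.d0, mul_one] at this⟩

theorem TU.t_H (h : TU φ t H β) {u w : M} (k : B u w = 0) :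
    t * H u w * t⁻¹ = H u w * φ (tE B u w) := by
  have m := h.toMo
  have e1 : H u w * t = t * φ (tE B u w) * H u w := mul_inv_eq_iff_eq_mul.1 (h.ht u w k)
  have e2 : Commute (φ (tE B u w)) (H u w) :=
    h.H_fix (by rw [m.lin_tE k, m.alt, m.swap k]; simp) (by rw [m.lin_tE k, m.alt, k]; simp)
  have e3 : t⁻¹ = t := inv_eq_of_mul_eq_one_right h.t2
  rw [e3, mul_assoc, e1, ← mul_assoc, ← mul_assoc, h.t2, one_mul, e2.eq]

theorem I2.phi_mem (g : sIsom B) : φ g ∈ G1 φ H := mem_sup_left ⟨g, rfl⟩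

theorem I2.H_mem (u w : M) : H u w ∈ G1 φ H := mem_sup_right (subset_closure ⟨u, w, rfl⟩)

theorem I2.G1_le {A : Subgroup G} (k1 : ∀ g, φ g ∈ A) (k2 : ∀ u w, H u w ∈ A) : G1 φ H ≤ A :=
  sup_le (by rintro _ ⟨g, rfl⟩; exact k1 g) ((closure_le _).2 (by rintro _ ⟨u, w, rfl⟩; exact k2 u w))

theorem TU.nG1 (h : TU φ t H β) {c g : G} (hc : Commute c t) (hg : g ∈ G1 φ H) :
    c * g * c⁻¹ ∈ G1 φ H := by
  obtain ⟨α, Γ, τ, k1, k2⟩ := h.toHyp.semi hc
  obtain ⟨s, hs⟩ := h.eqvC c hc α Γ τ k1 k2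
  refine I2.G1_le (A := (G1 φ H).comap (MulAut.conj c).toMonoidHom) (fun a => ?_)
    (fun u w => ?_) hg
  · change c * φ a * c⁻¹ ∈ G1 φ H
    rw [k1]
    exact I2.phi_mem _
  · change c * H u w * c⁻¹ ∈ G1 φ H
    by_cases k : B u w = 0
    · rw [hs u w k]
      exact mul_mem (I2.H_mem _ _) (I2.phi_mem _)
    · rw [h.junk u w k, mul_one, mul_inv_cancel]
      exact one_mem _

theorem I1.tT (k : I1 φ H ψ ι γ j) (r : RF B Bh ρ β γ j v) (e : Em ι j v) {u w : M} (huw : B u w = 0)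
    (c : F) : ψ (tT Bh (j u + γ • j w) (ρ c)) = Th φ H β u w c := by
  rw [r.tT2 e huw, map_mul, k.res, k.resH _ _ (by rw [map_smul, r.sp.swap huw, smul_zero]), Th]

theorem I1.range (k : I1 φ H ψ ι γ j) (h : TU φ t H β) (r : RF B Bh ρ β γ j 0) (e : Em ι j 0) :
    ψ.range = G1 φ H := by
  refine le_antisymm ?_ (I2.G1_le (fun g => ⟨_, k.res g⟩) fun u w => ?_)
  · rintro _ ⟨g, rfl⟩
    have := r.gen e (A := (G1 φ H).comap ψ) (fun g => by rw [mem_comap, k.res]; exact I2.phi_mem g)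
      (fun u w huw => by rw [mem_comap, k.resH u w huw]; exact I2.H_mem u w)
    exact this.ge (mem_top g)
  · by_cases huw : B u w = 0
    · exact ⟨_, k.resH u w huw⟩
    · rw [h.junk u w huw]
      exact one_mem _

theorem I2.cO (h : TU φ t H β) : Ot φ t ≤ Cs (G1 φ H) := fun o ho => Gold.mem_Cs.2 fun g hg =>
  (Gold.mem_Cs.1 (I2.G1_le (A := Cs (Ot φ t)) (fun a => SP7.L_le_Cs_Ot ⟨a, rfl⟩) h.cO hg) o ho).symm

theorem I2.nL (h : TU φ t H β) : C1 t ≤ Ns (G1 φ H) := fun c hc => by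
  have hc' : Commute c t := (mem_centralizer_singleton_iff.1 hc)
  refine mem_normalizer_iff.2 fun g => ⟨h.nG1 hc', fun hg => ?_⟩
  have := h.nG1 hc'.inv_left hg
  rwa [show c⁻¹ * (c * g * c⁻¹) * c⁻¹⁻¹ = g by group] at this

theorem eu_of_T1 (h : T1 φ t H β) (r : RF B Bh ρ β γ j 0) (e : Em ι j 0) (k : I1 φ H ψ ι γ j) :
    EU φ t ψ ι ρ β γ j 0 := by
  have h' := tu_of_T1 h
  obtain ⟨u, u0⟩ := r.sp.exists_ne
  refine ⟨h.toH1, r, e, mod_of r.mo (g := ι (tT B u 1)) ?_, k.res, ?_, ?_, ?_, fun _ => h.nb⟩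
  · rw [k.res]
    exact fun c => r.sp.tT_ne u0 one_ne_zero (h.inj (c.trans (map_one φ).symm))
  · obtain ⟨α, Γ, k1, k2, k3⟩ := r.conj
    refine ⟨α, Γ, fun g => ?_, k1, k2, k3⟩
    have := r.gen e (A := ((MulAut.conj t).toMonoidHom.comp ψ).eqLocus (ψ.comp α.toMonoidHom))
      (fun g => by
        change t * ψ (ι g) * t⁻¹ = ψ (α (ι g))
        rw [r.α_ι e k1 k2 k3, k.res, (h.tc g).eq, mul_inv_cancel_right])
      (fun u w huw => by
        change t * ψ _ * t⁻¹ = ψ (α _)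
        rw [r.α_E e k1 k2 huw, map_mul, k.res, k.resH u w huw, h'.t_H huw])
    exact this.ge (mem_top g)
  · rw [k.range h' r e]
    exact I2.cO h'
  · rw [k.range h' r e]
    exact I2.nL h'

end Cfsg.Lib.SPU6
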