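import Cfsg.Agent.SPU6.M1
import Cfsg.Agent.SPU6.GEN
import Cfsg.Agent.UM6.K4

/-!
# Unitary overgroups of `Sp_{2k}(2ⁿ)`: adding a unit vector
-/

set_option autoImplicit false
set_option linter.unusedSectionVars false
set_option linter.unusedVariables false

namespace Cfsg.Lib.SPU6

open Subgroup Module Cfsg.Lib.Trans Cfsg.Lib.Gold Cfsg.Lib.Class.Form Cfsg.Lib.Class.FAut
open Cfsg.Lib.UM6 (tT tE I2 I3 Fx Semi Mp Ot sg kk qn)
open Cfsg.Lib.SP7 (P2 P3 O3 G1 G2 T1 T3)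
open scoped commutatorElement

variable {G F M K N N' : Type*} [Group G] [Finite G] [Field F] [Finite F] [AddCommGroup M]
  [Module F M] [FiniteDimensional F M] [Field K] [Finite K] [AddCommGroup N] [Module K N]
  [FiniteDimensional K N] [AddCommGroup N'] [Module K N'] [FiniteDimensional K N'] {σ : K →+* K}
  {B : M →ₗ[F] M →ₗ[F] F} {Bh : N →ₛₗ[σ] N →ₗ[K] K} {Bh' : N' →ₛₗ[σ] N' →ₗ[K] K}
  {ρ : F →+* K} {β : F} {γ : K} {j : M →+ N} {v : N} {v' : N'} {ι : sIsom B →* sIsom Bh}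
  {ι' : sIsom Bh →* sIsom Bh'} {i : N →ₗ[K] N'} {φ : sIsom B →* G} {t : G} {H : M → M → G}
  {ψ : sIsom Bh →* G}


theorem M3.i_inj (p : PL ι' i v') : Function.Injective i := fun x y e => by
  by_contra hc
  obtain ⟨z, hz⟩ := p.mo.exists_ne (sub_ne_zero.2 hc)
  rw [← p.form, map_sub, e, sub_self] at hz
  simp at hz

theorem M3.vi (p : PL ι' i v') (x : N) : Bh' v' (i x) = 0 := p.mo'.swap (p.iv x)

theorem PL.inj (p : PL ι' i v') {x x' : N} {k k' : K} (e : i x + k • v' = i x' + k' • v') :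
    x = x' ∧ k = k' := by
  obtain rfl : k = k' := by simpa [M3.vi p, p.vv] using congrArg (Bh' v') e
  exact ⟨M3.i_inj p (add_right_cancel e), rfl⟩

theorem PL.i_inj (p : PL ι' i v') : Function.Injective i := M3.i_inj p

theorem PL.vi (p : PL ι' i v') (x : N) : Bh' v' (i x) = 0 := M3.vi p x

theorem PL.ne (p : PL ι' i v') : v' ≠ 0 := fun e => by simpa [e] using p.vv

theorem M3.ext (p : PL ι' i v') {g g' : sIsom Bh'} (k : ∀ x, lin g (i x) = lin g' (i x))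
    (k' : lin g v' = lin g' v') : g = g' := lin_ext fun y => by
  obtain ⟨x, c, rfl⟩ := p.span y
  simp only [map_add, map_smul, k, k']

theorem M3.i2 (p : PL ι' i v') {x y : N} (k : I2 Bh x y) : I2 Bh' (i x) (i y) :=
  ⟨(p.form ..).trans k.uu, (p.form ..).trans k.ww, (p.form ..).trans k.uw⟩

theorem PL.tT (p : PL ι' i v') {x : N} (hx : Bh x x = 0) {c : K} (hc : σ c = c) :
    ι' (tT Bh x c) = tT Bh' (i x) c := by
  refine M3.ext p (fun z => ?_) ?_ <;> rw [p.mo'.lin_tT ((p.form ..).trans hx) hc]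
  · rw [p.li, p.mo.lin_tT hx hc, map_add, map_smul, p.form]
  · rw [p.lv, p.iv, mul_zero, zero_smul, add_zero]

theorem PL.tE (p : PL ι' i v') {x y : N} (k : I2 Bh x y) : ι' (tE Bh x y) = tE Bh' (i x) (i y) := by
  refine M3.ext p (fun z => ?_) ?_ <;> rw [p.mo'.lin_tE (M3.i2 p k)]
  · rw [p.li, p.mo.lin_tE k, map_add, map_add, map_smul, map_smul, p.form, p.form]
  · rw [p.lv, p.iv, p.iv, zero_smul, zero_smul, add_zero, add_zero]

theorem PL.li3 (p : PL ι' i v') {x y z : N} (k : I3 Bh x y z) (li : LinearIndependent K ![x, y, z]) :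
    I3 Bh' (i x) (i y) (i z) ∧ LinearIndependent K ![i x, i y, i z] := by
  refine ⟨⟨M3.i2 p k.toI2, (p.form ..).trans k.xx, (p.form ..).trans k.ux,
    (p.form ..).trans k.wx⟩, ?_⟩
  have e : ![i x, i y, i z] = i ∘ ![x, y, z] := funext fun n => by fin_cases n <;> rfl
  exact e ▸ li.map' i (LinearMap.ker_eq_bot.2 p.i_inj)

theorem RF.pl (h : RF B Bh ρ β γ j 0) (p : PL ι' i v') :
    RF B Bh' ρ β γ (i.toAddMonoidHom.comp j) v' where
  toQE := h.toQE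
  mo := p.mo'
  sp := h.sp
  smul a u := (congrArg i (h.smul a u)).trans (i.map_smul ..)
  form u w := (p.form ..).trans (h.form u w)
  jv u := p.iv _
  vv := Or.inr p.vv
  span y := by
    obtain ⟨x, k, rfl⟩ := p.span y
    obtain ⟨u, w, rfl⟩ := h.co0 x
    exact ⟨u, w, k, by rw [map_add, map_smul]; rfl⟩

theorem Em.pl (e : Em ι j 0) (p : PL ι' i v') : Em (ι'.comp ι) (i.toAddMonoidHom.comp j) v' :=
  ⟨fun g u => (p.li ..).trans (congrArg i (e.lj g u)), fun g => p.lv _⟩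

theorem M3.dm_eq {x : N} {b : K} {g : sIsom Bh} (hg : IsE Bh 1 x v b g) : dm Bh x v b = g := by
  have e : ∃ g, IsE Bh 1 x v b g := ⟨g, hg⟩
  rw [dm, dif_pos e]
  exact e.choose_spec.unique hg

theorem isE_dm (m : UM6.Mo Bh) {x : N} (hx : Bh x x = 0) (hv : Bh x v = 0) {b : K}
    (hb : b + σ b = Bh v v) : IsE Bh 1 x v b (dm Bh x v b) := by
  obtain ⟨g, hg⟩ := m.cls.exists_isE hx hv (b := b) (by rw [one_mul, one_mul, hb])
  rwa [M3.dm_eq hg]

theorem M3.lin_dm (m : UM6.Mo Bh) {x : N} (hx : Bh x x = 0) (hv : Bh x v = 0) {b : K}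
    (hb : b + σ b = Bh v v) (z : N) :
    lin (dm Bh x v b) z = z + Bh x z • v + (Bh v z + b * Bh x z) • x := by
  rw [isE_dm m hx hv hb z, m.vsub, one_mul]

theorem M3.lin (p : PL ι' i v') (hγ : γ + σ γ = 1) {x : N} (hx : Bh x x = 0) (z : N') :
    lin (dm Bh' (i x) v' γ) z = z + Bh' (i x) z • v' + (Bh' v' z + γ * Bh' (i x) z) • i x :=
  M3.lin_dm p.mo' ((p.form ..).trans hx) (p.iv x) (hγ.trans p.vv.symm) z

theorem PL.dm_zero (p : PL ι' i v') : dm Bh' (i 0) v' γ = 1 := M3.dm_eq fun x => by simp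

theorem PL.dm_i (p : PL ι' i v') (hγ : γ + σ γ = 1) {x : N} (hx : Bh x x = 0) (f : N) :
    lin (dm Bh' (i x) v' γ) (i f) = i (f + (γ * Bh x f) • x) + Bh x f • v' := by
  rw [M3.lin p hγ hx, p.vi, p.form, zero_add, map_add, map_smul, add_right_comm]

theorem PL.dm_add (p : PL ι' i v') (hγ : γ + σ γ = 1) {x y : N} (k : I2 Bh x y) :
    dm Bh' (i (x + y)) v' γ = dm Bh' (i x) v' γ * dm Bh' (i y) v' γ * ι' (UM6.tE Bh (γ • y) x) := by
  have k1 : I2 Bh (γ • y) x := by simpa using (k.symm p.mo).smul γ 1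
  refine lin_ext fun z => ?_
  rw [lin_mul, lin_mul, p.tE k1, p.mo'.lin_tE (M3.i2 p k1), M3.lin p hγ (k.add p.mo),
    M3.lin p hγ k.uu, M3.lin p hγ k.ww]
  simp only [map_add, map_smulₛₗ, LinearMap.add_apply, LinearMap.smul_apply, smul_eq_mul,
    RingHom.id_apply, p.form, p.iv, p.vi, p.vv, k.uu, k.ww, k.uw, p.mo.swap k.uw, mul_zero,
    add_zero, mul_one]
  match_scalars
  · rfl
  · ring
  · linear_combination (-Bh' (i y) z) * hγ + (γ - 1) * Bh' (i y) z * p.mo.two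
  · ring

theorem PL.dm_conj (p : PL ι' i v') (hγ : γ + σ γ = 1) (g : sIsom Bh) {x : N} (hx : Bh x x = 0) :
    ι' g * dm Bh' (i x) v' γ * (ι' g)⁻¹ = dm Bh' (i (lin g x)) v' γ := by
  have := (isE_dm p.mo' ((p.form ..).trans hx) (p.iv x) (hγ.trans p.vv.symm)).conj (ι' g)
  rw [p.li, p.lv] at this
  exact (M3.dm_eq this).symm

theorem PL.cover (p : PL ι' i v') (hγ : γ + σ γ = 1) {y : N'} (hy : Bh' y y = 0) {q : N}
    (hq : Bh q q = 0) : ∃ x f, I2 Bh q x ∧ Bh f f = 0 ∧ y = lin (dm Bh' (i x) v' γ) (i f) := by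
  obtain ⟨x, k, rfl⟩ := p.span y
  simp only [map_add, map_smulₛₗ, LinearMap.add_apply, LinearMap.smul_apply, smul_eq_mul,
    RingHom.id_apply, p.form, p.iv, p.vi, p.vv, mul_zero, add_zero, mul_one, zero_add] at hy
  by_cases x0 : Bh x x = 0
  · have k0 : k = 0 := by simpa [x0] using hy
    exact ⟨0, x, ⟨hq, by simp, by simp⟩, x0, by rw [p.dm_zero]; simp [k0]⟩
  obtain ⟨z, z0, qz, -, xz⟩ := iso2 p.mo (p := x) (a := q) (b := q) fun hx => x0 (by
    rw [Set.pair_eq_singleton] at hx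
    exact UM6.ti1 hq x hx x hx)
  have zx : Bh z x = 1 := by rw [← p.mo.toHerm.conj, xz, map_one]
  have h1 : Bh (σ k • z) (σ k • z) = 0 := by simp [z0]
  have h2 : Bh (σ k • z) (x + (γ * k) • σ k • z) = k := by simp [z0, zx, p.mo.ss]
  refine ⟨σ k • z, x + (γ * k) • σ k • z, ⟨hq, h1, by simp [qz]⟩, ?_, ?_⟩
  · simp only [map_add, map_smulₛₗ, LinearMap.add_apply, LinearMap.smul_apply, smul_eq_mul,
      RingHom.id_apply, z0, zx, xz, map_mul, p.mo.ss]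
    linear_combination hy + k * σ k * hγ
  · rw [p.dm_i hγ h1, h2, add_assoc x, p.mo.vadd_self, add_zero]

theorem PL.gen (p : PL ι' i v') (hγ : γ + σ γ = 1) {A : Subgroup (sIsom Bh')} (k1 : ∀ g, ι' g ∈ A)
    (k2 : ∀ x, Bh x x = 0 → dm Bh' (i x) v' γ ∈ A) : A = ⊤ := p.mo'.gen_T fun y hy => by
  obtain ⟨x, f, k, hf, rfl⟩ := p.cover hγ hy (q := 0) (by simp)
  rw [← p.mo'.tT_conj _ ((p.form ..).trans hf) (map_one σ), ← p.tT hf (map_one σ)]
  exact mul_mem (mul_mem (k2 x k.ww) (k1 _)) (inv_mem (k2 x k.ww))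

theorem PL.gen1 (p : PL ι' i v') (h : RF B Bh ρ β γ j 0) (e : Em ι j 0) {A : Subgroup (sIsom Bh')}
    (k1 : ∀ g, ι' (ι g) ∈ A) (k2 : ∀ u w, B u w = 0 → ι' (UM6.tE Bh (γ • j u) (j w)) ∈ A)
    (k3 : ∀ u, dm Bh' (i (j u)) v' γ ∈ A) : A = ⊤ := by
  have h1 : ∀ g, ι' g ∈ A := fun g => (h.gen e (A := A.comap ι') k1 k2).ge (mem_top g)
  refine p.gen h.toQE.trγ h1 fun x hx => ?_
  by_cases x0 : x = 0
  · rw [x0, p.dm_zero]
    exact one_mem _
  have h6 := h.sp.six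
  have : Nontrivial M := Module.nontrivial_of_finrank_pos (R := F) (by omega)
  obtain ⟨u, u0⟩ := exists_ne (0 : M)
  obtain ⟨g, rfl⟩ := p.mo.tr1 (h.iso u) ((map_ne_zero_iff j h.j_inj).2 u0) hx x0
  rw [← p.dm_conj h.toQE.trγ g (h.iso u)]
  exact mul_mem (mul_mem (h1 g) (k3 u)) (inv_mem (h1 g))

theorem RF.α_dm (h : RF B Bh ρ β γ j v) (e : Em ι j v) {α : MulAut (sIsom Bh)} {Γ : N ≃+ N}
    (k : Semi α Γ (sg σ)) (k1 : ∀ u, Γ (j u) = j u) (k2 : Γ v = v) (hv : Bh v v = 1) (u : M) :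
    α (dm Bh (j u) v γ) = dm Bh (j u) v γ * ι (tT B u 1) :=
  lin_ext (Γ.surjective.forall.2 fun z => by
    have h1 := M3.lin_dm h.mo (h.iso u) (h.jv u) (h.toQE.trγ.trans hv.symm)
    rw [k.conj, lin_mul, e.tT h, h.mo.lin_tT (h.iso u) (h.sρ 1), h1, h1]
    simp only [map_add, k.smul, map_mul, ← k.form, k1, k2, map_smul, h.iso, h.vj, smul_zero,
      add_zero, map_one, h.mo.sg_apply γ, h.sγ]
    module)

end Cfsg.Lib.SPU6
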