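import Cfsg.Agent.SPU6.T1

/-!
# The unitary overgroups: action of the new short root elements, orthogonal case
-/

set_option autoImplicit false
set_option linter.unusedSectionVars false
set_option linter.unusedVariables false

namespace Cfsg.Lib.SPU6

open Subgroup Module Cfsg.Lib.Trans Cfsg.Lib.Gold Cfsg.Lib.Class.Form Cfsg.Lib.Class.FAut
open Cfsg.Lib.UM6 (tT tE I2 I3 Fx Semi Mp Ot sg kk qn)
open Cfsg.Lib.SP7 (P2 P3 O3 G1 G2 T1 T3)
open scoped commutatorElement

variable {G F M K N : Type*} [Group G] [Finite G] [Field F] [Finite F] [AddCommGroup M]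
  [Module F M] [FiniteDimensional F M] [Field K] [Finite K] [AddCommGroup N] [Module K N]
  [FiniteDimensional K N] {σ : K →+* K}
  {B : M →ₗ[F] M →ₗ[F] F} {Bh : N →ₛₗ[σ] N →ₗ[K] K}
  {ρ : F →+* K} {β : F} {γ : K} {j : M →+ N} {v : N} {ι : sIsom B →* sIsom Bh}
  {φ : sIsom B →* G} {t : G} {H : M → M → G} {ψ : sIsom Bh →* G}

theorem T2.symm (m : SP7.Mo B) (x y : M) : B x y = B y x := by
  have h1 := m.alt (x + y)
  simp only [map_add, LinearMap.add_apply, m.alt] at h1
  linear_combination h1 - B y x * m.two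

theorem T2.fixT (m : SP7.Mo B) {u x : M} (k : B u x = 0) (c : F) : lin (tT B u c) x = x := by
  simp [m.lin_tT, k]

theorem T2.fixE (m : SP7.Mo B) {u w x : M} (k : B u w = 0) (k1 : B u x = 0) (k2 : B w x = 0) :
    lin (tE B u w) x = x := by
  simp [m.lin_tE k, k1, k2]

theorem TU.H_T (h : TU φ t H β) {z y u : M} (k : B z y = 0) (k' : B y u = 0) (c : F) :
    H z y * φ (tT B u c) * (H z y)⁻¹ = Th φ H β (u + B z u • y) (B z u • y) c := by
  have m : SP7.Mo B := h.toMo
  set s := B z u with hs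
  have uy : B u y = 0 := m.swap k'
  have yz : B y z = 0 := m.swap k
  have uz : B u z = s := T2.symm m u z
  have ya : B y (z + (c * s) • u) = 0 := by simp [yz, k']
  have az : B (z + (c * s) • u) z = s * s * c := by
    simp only [map_add, map_smul, LinearMap.add_apply, LinearMap.smul_apply, m.alt, uz, smul_eq_mul]
    ring
  have aa : z + (c * s) • u + z = (c * s) • u := by
    rw [add_right_comm, m.vadd_self, zero_add]
  have yu : B y ((c * s) • u) = 0 := by simp [k']
  have e1 := h.eqv (tT B u c) z y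
  rw [T2.fixT m uy, m.lin_tT, uz, h.swap _ _ ya, one_smul] at e1
  have e2 := h.swap _ _ yz
  rw [one_smul] at e2
  have e3 := h.eqv (tE B y (z + (c * s) • u)) y z
  rw [T2.fixE m ya (m.alt y) (m.swap ya), m.lin_tE ya, yz, az, zero_smul, add_zero] at e3
  have e4 := h.H_shift yz (s * s * c)
  have e5 := h.mul y _ z ya yz
  rw [az, aa] at e5
  have e6 := congrArg φ (m.tE_mul ya yz)
  rw [az, aa, SP7.ee, map_mul, map_mul] at e6
  have gg : φ (tT B u c) * φ (tT B u c) = 1 := by rw [← map_mul, m.tT_sq, map_one]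
  have tt : φ (tT B y (s * s * c)) * φ (tT B y (s * s * c)) = 1 := by
    rw [← map_mul, m.tT_sq, map_one]
  have e7 : H y (z + (s * s * c) • y) = H y z * φ (tT B y (s * s * c)) := by
    rw [e4, mul_assoc (H y _), tt, mul_one]
  have L : H z y * φ (tT B u c) * (H z y)⁻¹ = φ (tT B u c) * (H y ((c * s) • u) *
      (φ (tT B y (β * (s * s * c))) * (φ (tT B y (s * s * c)) *
        (φ (tE B y ((c * s) • u)) * φ (tT B y (s * s * c)))))) := by
    rw [inv_eq_of_mul_eq_one_right (h.sq z y), ← e6, ← mul_assoc (H y _), ← e5,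
      mul_assoc (H y _), ← mul_assoc (H y z), ← e7, ← e3]
    calc H z y * φ (tT B u c) * H z y
        = φ (tT B u c) * (φ (tT B u c) * H z y * (φ (tT B u c))⁻¹ * H z y) := by
          rw [inv_eq_of_mul_eq_one_right gg]
          simp only [← mul_assoc, gg, one_mul]
      _ = _ := by rw [e1, e2]; group
  have r1 : tT B (u + s • y) c =
      tT B u c * tT B y (s * s * c) * tE B y ((c * s) • u) := by
    rw [m.tT_vadd (by simp [uy]), m.tT_smul, smul_smul, ← m.tE_smul uy, m.tE_comm yu]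
  have r2 : H (s • y) (c • (u + s • y)) = H y ((c * s) • u) * φ (tT B y (s * s * c)) := by
    rw [h.smul, show s • c • (u + s • y) = (c * s) • u + (s * s * c) • y by module,
      h.add2 _ _ _ ⟨yu, by simp [m.alt], by simp [uy]⟩, h.self, one_mul]
  have cT : ∀ a, Commute (φ (tT B y a)) (H y ((c * s) • u)) := fun a =>
    h.H_fix (T2.fixT m (m.alt y) a) (T2.fixT m yu a)
  have cE : Commute (φ (tE B y ((c * s) • u))) (H y ((c * s) • u)) :=
    h.H_fix (T2.fixE m yu (m.alt y) (m.swap yu)) (T2.fixE m yu yu (m.alt _))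
  have cET : ∀ a, Commute (φ (tE B y ((c * s) • u))) (φ (tT B y a)) := fun a => by
    refine Commute.map ?_ φ
    rw [Commute, SemiconjBy, ← mul_inv_eq_iff_eq_mul, m.tT_conj,
      T2.fixE m yu (m.alt y) (m.swap yu)]
  have cTT : ∀ a b, Commute (φ (tT B y a)) (φ (tT B y b)) := fun a b =>
    (m.comm_TT (m.alt y) a b).map φ
  rw [L, Th, r1, r2, m.tT_smul, show s * s * (β * c) = β * (s * s * c) by ring]
  simp only [map_mul, mul_assoc]
  rw [(cT _).left_comm, cE.left_comm, (cT _).left_comm, (cET _).left_comm,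
    (cTT (s * (s * c)) (β * (s * (s * c)))).left_comm]

theorem TU.H_Th (h : TU φ t H β) {z y u w : M} (k : O3 B w z y) (k1 : B y u = 0) (k2 : B u w = 0)
    (c : F) : H z y * Th φ H β u w c * (H z y)⁻¹ = Th φ H β (u + B z u • y) (w + B z u • y) c := by
  have m : SP7.Mo B := h.toMo
  have e1 := h.H_T k.wx k1 c
  have e2 := h.r120 z y w (c • u) k (by simp [m.swap k2]) (by simp [k1])
  rw [map_smul, smul_eq_mul] at e2
  set s := B z u with hs
  have uy : B u y = 0 := m.swap k1
  have wy : B w y = 0 := k.ux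
  have yw : B y w = 0 := m.swap wy
  have wu : B w u = 0 := m.swap k2
  have al := m.alt
  have e3 : Commute (φ (tT B w (β * c))) (H z y) :=
    h.H_fix (T2.fixT m k.uw _) (T2.fixT m k.ux _)
  have L : H z y * Th φ H β u w c * (H z y)⁻¹ = H z y * φ (tT B u c) * (H z y)⁻¹ *
      (φ (tT B w (β * c)) * (⁅H z y, H w (c • u)⁆ * H w (c • u))) := by
    rw [Th, map_mul, commutatorElement_def, mul_assoc (H z y * H w _ * _), inv_mul_cancel,
      mul_one, mul_assoc (H z y) (H w _), e3.left_comm]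
    group
  have r1 : tT B (w + s • y) (β * c) =
      tT B w (β * c) * tT B (s • y) (β * c) * tE B w ((β * (c * s)) • y) := by
    rw [m.tT_vadd (by simp [wy]), smul_smul, mul_assoc β]
  have r2 : H (w + s • y) (c • (u + s • y)) =
      H w (c • u) * H w ((c * s) • y) * H (s • y) (c • (u + s • y)) := by
    rw [h.add1 _ _ _ ⟨by simp [wy], by simp [wy, wu], by simp [k1, al]⟩, smul_add, smul_smul,
      h.add2 w _ _ ⟨by simp [wu], by simp [wy], by simp [uy]⟩]
  have wE : B w ((β * (c * s)) • y) = 0 := by simp [wy]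
  have c1 : Commute (φ (tT B w (β * c))) (H (s • y) (c • (u + s • y))) :=
    h.H_fix (T2.fixT m (by simp [wy]) _) (T2.fixT m (by simp [wy, wu]) _)
  have c2 : Commute (H (s • y) (c • (u + s • y))) (H w ((c * s) • y)) :=
    h.com _ _ _ _ ⟨by simp [k1, al], by simp [yw], by simp [k2, yw]⟩
      ⟨by simp [k1, al], by simp [al], by simp [uy, al]⟩ (by simp [wy])
  have c3 : Commute (φ (tE B w ((β * (c * s)) • y))) (H (s • y) (c • (u + s • y))) :=
    h.H_fix (T2.fixE m wE (by simp [wy]) (by simp [al]))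
      (T2.fixE m wE (by simp [wy, wu]) (by simp [k1, al]))
  have c4 : Commute (H (s • y) (c • (u + s • y))) (H w (c • u)) :=
    h.com _ _ _ _ ⟨by simp [k1, al], by simp [yw], by simp [k2, yw]⟩
      ⟨by simp [k1, al], by simp [k1], by simp [k1, al]⟩ (by simp [wu])
  have c5 : Commute (φ (tT B (s • y) (β * c))) (φ (tT B w (β * c))) :=
    (m.comm_TT (by simp [yw]) _ _).map φ
  have c6 : Commute (φ (tE B w ((β * (c * s)) • y))) (H w ((c * s) • y)) :=
    h.H_fix (T2.fixE m wE (al w) (by simp [yw])) (T2.fixE m wE (by simp [wy]) (by simp [al]))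
  rw [L, e1, e2, Th, Th, r1, r2]
  simp only [map_mul, mul_assoc]
  rw [c1.symm.left_comm, c2.left_comm, c3.symm.left_comm, c4.eq, c5.left_comm, c6.symm.left_comm,
    (h.comw w ((c * s) • y) (c • u)).left_comm]

theorem TU.eqA (h : TU φ t H β) (r : RF B Bh ρ β γ j 0) {z y : M} (k : B z y = 0) {x : N}
    (hx : Bh x x = 0) (hy : Bh (j y) x = 0) : EQ φ H β γ j (H z y) (tE Bh (γ • j z) (j y)) x := by
  have m : SP7.Mo B := r.sp
  obtain ⟨a, a0, s, hs⟩ : ∃ a : K, a ≠ 0 ∧ ∃ s, a * Bh (j z) x = ρ s := by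
    by_cases h0 : Bh (j z) x = 0
    · exact ⟨1, one_ne_zero, 0, by simp [h0]⟩
    · exact ⟨_, inv_ne_zero h0, 1, by simp [h0]⟩
  obtain ⟨u, w, huw⟩ := r.co0 (a • x)
  have hx' : Bh (a • x) (a • x) = 0 := by simp [hx]
  have h1 : Bh (j z) (a • x) = ρ s + γ * ρ 0 := by simp [hs]
  have h2 : Bh (j y) (a • x) = ρ 0 + γ * ρ 0 := by simp [hy]
  have h3 := hx'
  rw [huw, r.form1] at h1 h2
  rw [huw, r.iso_iff] at h3
  obtain ⟨-, zw⟩ := r.toQE.inj h1
  obtain ⟨yu, yw⟩ := r.toQE.inj h2
  have key : EQ φ H β γ j (H z y) (tE Bh (γ • j z) (j y)) (a • x) := fun c => by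
    rw [huw, r.lin_E k, r.form1, r.form1, zw, yu, yw, Yt_eq r,
      h.H_Th ⟨m.swap zw, m.swap yw, k⟩ yu h3, ← Yt_eq r]
    congr 1
    rw [map_add, map_add, r.smul, r.sγ, map_zero]
    module
  have := h.EQ_smul r hx' key a⁻¹
  rwa [inv_smul_smul₀ a0] at this

end Cfsg.Lib.SPU6
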